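import Cfsg.Agent.H410.EndSz
import Cfsg.Agent.H459.Inv.Base

/-!
# S3830: the row of the Suzuki groups (helper947)

* `inverts` : in the situation `Geo` (with abelian centralisers `AbC`): if `⟨g, y⟩` is solvable, `y` an involution of
  `P a`, `g` an element of odd order with `g • a ≠ a`, then `y` inverts `g`;
* `irow_suzuki`.
-/

set_option autoImplicit false
set_option linter.unusedSectionVars false

namespace Cfsg.Agent.H947.Inv

open Subgroup MulAction Cfsg.Agent.H101.SzAbs Cfsg.Agent.H101.SzAbs.Geo Cfsg.Agent.H459.Rad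
  Cfsg.Agent.H410.EndSz Cfsg.Agent.H459.Inv
open scoped commutatorElement

theorem comm_aux {G : Type*} [Group G] {g y b : G} (hyy : y * y = 1) (hyi : y⁻¹ = y)
    (h2 : y * (g⁻¹ * b * g) * y = (g⁻¹ * b * g)⁻¹) (h3 : y * b * y = b⁻¹) :
    g * y * g⁻¹ * y * b = b * (g * y * g⁻¹ * y) := by
  have h4 : y * b = b⁻¹ * y := by
    calc y * b = y * b * (y * y) := by rw [hyy, mul_one]
      _ = (y * b * y) * y := by group
      _ = _ := by rw [h3]
  have h5 : y * (g⁻¹ * b⁻¹ * g) = g⁻¹ * b * g * y := by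
    calc y * (g⁻¹ * b⁻¹ * g) = (y * (g⁻¹ * b * g) * y)⁻¹ * y := by
          rw [_root_.mul_inv_rev, _root_.mul_inv_rev, hyi]
          calc y * (g⁻¹ * b⁻¹ * g) = y * (g⁻¹ * b⁻¹ * g) * (y * y) := by rw [hyy, mul_one]
            _ = _ := by group
      _ = _ := by rw [h2]; group
  calc g * y * g⁻¹ * y * b = g * y * g⁻¹ * (y * b) := by group
    _ = g * (y * (g⁻¹ * b⁻¹ * g)) * g⁻¹ * y := by rw [h4]; group
    _ = g * (g⁻¹ * b * g * y) * g⁻¹ * y := by rw [h5]
    _ = b * (g * y * g⁻¹ * y) := by group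

section abs

variable {G Ω : Type*} [Group G] [MulAction G Ω] {P : Ω → Subgroup G}

theorem inverts [Finite G] (h : Geo G Ω P) (hab : AbC P) {D : Subgroup G} (hD : Group.IsSolvable D) {a : Ω}
    {y g : G} (hy : y ∈ inv P a) (hyD : y ∈ D) (hgD : g ∈ D) (hga : g • a ≠ a) (hg : Odd (orderOf g)) :
    y * g * y⁻¹ = g⁻¹ := by
  have hnt : Nontrivial D := ⟨⟨⟨y, hyD⟩, 1, fun h0 => hy.2.2 (congrArg Subtype.val h0)⟩⟩
  obtain ⟨A, hAn, hA1, hAc⟩ := exists_abelian_normal hD
  have hconj : ∀ d ∈ D, ∀ y : D, y ∈ A → ∃ z : D, z ∈ A ∧ (z : G) = d * y * d⁻¹ := fun d hd y hy =>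
    ⟨⟨d, hd⟩ * y * ⟨d, hd⟩⁻¹, hAn.conj_mem y hy ⟨d, hd⟩, rfl⟩
  have hcomm : ∀ y z : D, y ∈ A → z ∈ A → (y : G) * z = z * y := fun y z hy hz => congrArg Subtype.val (hAc y hy z hz)
  by_cases hc : ∃ y : D, y ∈ A ∧ y ≠ 1 ∧ ∃ c, (y : G) ∈ P c
  · exfalso
    obtain ⟨x, hx, hx1, c, hxc⟩ := hc
    have hx1' : (x : G) ≠ 1 := fun h0 => hx1 (Subtype.ext h0)
    -- `D` fixes `c`
    have hfix : ∀ d ∈ D, d • c = c := by
      intro d hd
      obtain ⟨z, hz, hzx⟩ := hconj d hd x hx
      have h4 : (z : G) ∈ P c := h.cent c x hxc hx1' z (hcomm z x hz hx)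
      have h5 : (z : G) ∈ P (d • c) := by
        rw [hzx]
        exact h.conj d c x hxc
      have hz1 : (z : G) ≠ 1 := by
        rw [hzx]
        intro h0
        apply hx1'
        calc (x : G) = d⁻¹ * (d * x * d⁻¹) * d := by group
          _ = 1 := by rw [h0]; group
      exact (h.free _ c z h5 (h.le c z h4) hz1).symm
    have hac : c = a := h.free a c y hy.1 (hfix y hyD) hy.2.2
    exact hga (hac ▸ hfix g hgD)
  push Not at hc
  obtain ⟨x, hxA, hx1⟩ := A.ne_bot_iff_exists_ne_one.1 hA1 |> fun ⟨y, hy⟩ => (⟨y, y.2, fun h0 => hy (Subtype.ext h0)⟩ :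
    ∃ y : D, y ∈ A ∧ y ≠ 1)
  have hx1' : (x : G) ≠ 1 := fun h0 => hx1 (Subtype.ext h0)
  have hxP : ∀ c, (x : G) ∉ P c := fun c hc' => hc x hxA hx1 c hc'
  set U := centralizer ({(x : G)} : Set G) with hU
  have hxU : (x : G) ∈ U := by rw [hU, mem_centralizer_singleton_iff]
  have hUc : ∀ b ∈ U, ∀ c ∈ U, b * c = c * b := by
    intro b hb c hc
    rw [hU, mem_centralizer_singleton_iff] at hb hc
    exact hab x hx1' hxP b c hb hc
  have hUP : ∀ u ∈ U, u ≠ 1 → ∀ c, u ∉ P c := by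
    intro u hu hu1 c huc
    rw [hU, mem_centralizer_singleton_iff] at hu
    exact hxP c (h.cent c u huc hu1 x hu.symm)
  have hCC : ∀ u ∈ U, u ≠ 1 → ∀ c, c * u = u * c → c ∈ U := by
    intro u hu hu1 c hcu
    rw [hU, mem_centralizer_singleton_iff]
    exact hab u hu1 (hUP u hu hu1) c x hcu (hUc x hxU u hu)
  have hUodd : Odd (Nat.card U) := by
    by_contra hev
    rw [Nat.not_odd_iff_even, even_iff_two_dvd] at hev
    obtain ⟨t, ht⟩ := exists_prime_orderOf_dvd_card' (G := U) 2 hev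
    have ht2 : (t : G) * t = 1 := by
      have : t * t = 1 := by rw [← pow_two, ← ht, pow_orderOf_eq_one]
      exact congrArg Subtype.val this
    have ht1 : (t : G) ≠ 1 := by
      intro h0
      have : t = 1 := Subtype.ext h0
      rw [this, orderOf_one] at ht
      omega
    obtain ⟨c, hc⟩ := h.fix t ht2 ht1
    exact hUP t t.2 ht1 c hc
  have hyy : y * y = 1 := hy.2.1
  have hyi : y⁻¹ = y := inv_eq_of_mul_eq_one_right hyy
  -- elements of `D` normalise `U`
  have hnorm : ∀ d ∈ D, ∀ u ∈ U, d * u * d⁻¹ ∈ U := by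
    intro d hd u hu
    obtain ⟨z, hz, hzx⟩ := hconj d hd x hxA
    have hzU : (z : G) ∈ U := by
      rw [hU, mem_centralizer_singleton_iff]
      exact hcomm z x hz hxA
    have hz1 : (z : G) ≠ 1 := by
      rw [hzx]
      intro h0
      apply hx1'
      calc (x : G) = d⁻¹ * (d * x * d⁻¹) * d := by group
        _ = 1 := by rw [h0]; group
    refine hCC z hzU hz1 _ ?_
    rw [hzx]
    calc d * u * d⁻¹ * (d * x * d⁻¹) = d * (u * x) * d⁻¹ := by group
      _ = d * (x * u) * d⁻¹ := by rw [hUc u hu x hxU]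
      _ = d * x * d⁻¹ * (d * u * d⁻¹) := by group
  -- `y` inverts `U`
  have hinv : ∀ u ∈ U, y * u * y⁻¹ = u⁻¹ := by
    intro u hu
    by_contra hne
    have h1 := hnorm y hyD u hu
    have h2 : u * (y * u * y⁻¹) ∈ U := U.mul_mem hu h1
    have h3 : u * (y * u * y⁻¹) ≠ 1 := fun h0 => hne (inv_eq_of_mul_eq_one_right h0).symm
    refine hUP _ h2 h3 a (h.cent a y hy.1 hy.2.2 _ ?_)
    have h4 := hUc u hu _ h1
    rw [hyi] at h4 ⊢
    calc u * (y * u * y) * y = u * y * u * (y * y) := by group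
      _ = y * (y * u * y) * u := by
        rw [hyy]
        calc u * y * u * 1 = (y * y) * u * y * u := by rw [hyy]; group
          _ = _ := by group
      _ = y * (y * u * y * u) := by group
      _ = y * (u * (y * u * y)) := by rw [← h4]
  -- `[g, y] ∈ U`
  have hcU : g * y * g⁻¹ * y ∈ U := by
    rw [hU, mem_centralizer_singleton_iff]
    have h1 : g⁻¹ * x * g ∈ U := by
      have := hnorm g⁻¹ (D.inv_mem hgD) x hxU
      rwa [inv_inv] at this
    have h2 := hinv _ h1
    have h3 := hinv x hxU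
    rw [hyi] at h2 h3
    exact comm_aux hyy hyi h2 h3
  -- a square root
  obtain ⟨v, hvU, hv⟩ : ∃ v ∈ U, v * v = g * y * g⁻¹ * y := by
    obtain ⟨k, hk⟩ := hUodd
    refine ⟨(g * y * g⁻¹ * y) ^ (k + 1), U.pow_mem hcU _, ?_⟩
    have h1 : (g * y * g⁻¹ * y) ^ (Nat.card U) = 1 := by
      have := pow_card_eq_one' (x := (⟨g * y * g⁻¹ * y, hcU⟩ : U))
      exact congrArg Subtype.val this
    rw [← pow_add, show k + 1 + (k + 1) = Nat.card U + 1 by omega, pow_succ, h1, one_mul]
  -- `v⁻¹ g` commutes with `y`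
  set w := v⁻¹ * g with hw
  have hwy : w * y = y * w := by
    have h1 : g * y * g⁻¹ = v * v * y := by
      rw [hv]
      calc g * y * g⁻¹ = g * y * g⁻¹ * (y * y) := by rw [hyy, mul_one]
        _ = _ := by group
    have h2 := hinv v hvU
    rw [hyi] at h2
    have h3 : v * y = y * v⁻¹ := by
      calc v * y = (y * y) * v * y := by rw [hyy, one_mul]
        _ = y * (y * v * y) := by group
        _ = _ := by rw [h2]
    calc w * y = v⁻¹ * (g * y * g⁻¹) * g := by rw [hw]; group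
      _ = v⁻¹ * (v * v * y) * g := by rw [h1]
      _ = v * y * g := by group
      _ = y * v⁻¹ * g := by rw [h3]
      _ = y * w := by rw [hw]; group
  have hwP : w ∈ P a := h.cent a y hy.1 hy.2.2 w hwy
  have hwD : ∀ u ∈ U, w * u * w⁻¹ ∈ U := by
    intro u hu
    rw [hw]
    have h1 := hnorm g hgD u hu
    have h2 := U.mul_mem (U.mul_mem (U.inv_mem hvU) h1) hvU
    have h3 : v⁻¹ * g * u * (v⁻¹ * g)⁻¹ = v⁻¹ * (g * u * g⁻¹) * v := by group
    rw [h3]
    exact h2
  have hwk : ∀ k : ℕ, ∀ u ∈ U, w ^ k * u * (w ^ k)⁻¹ ∈ U := by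
    intro k
    induction k with
    | zero => intro u hu; simpa using hu
    | succ k ih =>
      intro u hu
      have h1 := hwD _ (ih u hu)
      have h2 : w ^ (k + 1) * u * (w ^ (k + 1))⁻¹ = w * (w ^ k * u * (w ^ k)⁻¹) * w⁻¹ := by
        rw [pow_succ']
        group
      rw [h2]
      exact h1
  have hgk : ∀ k : ℕ, g ^ k * (w ^ k)⁻¹ ∈ U := by
    intro k
    induction k with
    | zero => simp
    | succ k ih =>
      have h1 := U.mul_mem ih (hwk k v hvU)
      have h2 : g = v * w := by rw [hw]; group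
      have h3 : g ^ (k + 1) * (w ^ (k + 1))⁻¹ = g ^ k * (w ^ k)⁻¹ * (w ^ k * v * (w ^ k)⁻¹) := by
        rw [pow_succ, pow_succ]
        conv_lhs => rw [show g ^ k * g = g ^ k * (v * w) by rw [← h2]]
        group
      rw [h3]
      exact h1
  obtain ⟨k, hk⟩ := h.two a ⟨w, hwP⟩
  have hk' : w ^ (2 ^ k) = 1 := congrArg Subtype.val hk
  have hgU : g ^ (2 ^ k) ∈ U := by
    have := hgk (2 ^ k)
    rwa [hk', inv_one, mul_one] at this
  have hgU' : g ∈ U := by
    have hcop : Nat.Coprime (2 ^ k) (orderOf g) := Nat.Coprime.pow_left _ (Nat.coprime_two_left.2 hg)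
    have h1 : g ∈ zpowers (g ^ (2 ^ k)) := mem_zpowers_pow_iff.2 hcop
    exact (zpowers_le.2 hgU) h1
  exact hinv g hgU'

/-- an involution generating a non-solvable group with `g` -/
theorem exists_inv [Finite G] (h : Geo G Ω P) (hab : AbC P) {a : Ω} {y z g : G} (hy : y ∈ inv P a) (hz : z ∈ inv P a)
    (hyz : y ≠ z) (hga : g • a ≠ a) (hg : Odd (orderOf g)) :
    ¬ Group.IsSolvable ↥(closure ({g, y} : Set G)) ∨ ¬ Group.IsSolvable ↥(closure ({g, z} : Set G)) := by
  by_contra hcon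
  push Not at hcon
  obtain ⟨h1, h2⟩ := hcon
  have e1 := inverts h hab h1 hy (subset_closure (by simp)) (subset_closure (by simp)) hga hg
  have e2 := inverts h hab h2 hz (subset_closure (by simp)) (subset_closure (by simp)) hga hg
  have hyi : y⁻¹ = y := inv_eq_of_mul_eq_one_right hy.2.1
  have hzi : z⁻¹ = z := inv_eq_of_mul_eq_one_right hz.2.1
  have hyz1 : y * z ≠ 1 := by
    intro h0
    apply hyz
    rw [← hyi]
    exact inv_eq_of_mul_eq_one_right h0
  have hmem : y * z ∈ P a := (P a).mul_mem hy.1 hz.1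
  have hc : g * (y * z) = y * z * g := by
    have e3 : z * g = g⁻¹ * z := by rw [← e2, inv_mul_cancel_right]
    have e4 : y * g⁻¹ = g * y := by
      have : y * g⁻¹ * y⁻¹ = g := by
        calc y * g⁻¹ * y⁻¹ = (y * g * y⁻¹)⁻¹ := by group
          _ = g := by rw [e1, inv_inv]
      calc y * g⁻¹ = (y * g⁻¹ * y⁻¹) * y := by group
        _ = g * y := by rw [this]
    calc g * (y * z) = g * y * z := by group
      _ = y * g⁻¹ * z := by rw [e4]
      _ = y * (z * g) := by rw [e3]; group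
      _ = y * z * g := by group
  have h3 := h.cent a (y * z) hmem hyz1 g hc
  exact hga (h.le a g h3)

theorem ns_geo [Finite G] (h : Geo G Ω P) (hab : AbC P) {a : Ω} {y z w g : G} (hy : y ∈ inv P a) (hz : z ∈ inv P a)
    (hyz : y ≠ z) (hw : w • a ≠ a) (hg1 : g ≠ 1) (hg : Odd (orderOf g)) : NS (MulAut.conj g) := by
  obtain ⟨k, hk⟩ : ∃ k : G, g • k • a ≠ k • a := by
    by_contra hcon
    push Not at hcon
    have h1 : y • w • a ≠ w • a := fun h0 => hw (h.free a (w • a) y hy.1 h0 hy.2.2)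
    have h2 : y • w • a ≠ a := by
      intro h0
      apply h1
      have h3 : y • a = a := h.le a y hy.1
      have h4 : w • a = a := by
        apply MulAction.injective y
        change y • w • a = y • a
        rw [h0, h3]
      rw [h4, h3]
    refine hg1 (h.three g a (w • a) (y • w • a) hw.symm h1.symm h2.symm ?_ (hcon w) ?_)
    · simpa using hcon 1
    · have := hcon (y * w)
      rwa [mul_smul] at this
  set g' := k⁻¹ * g * k with hg'
  have hga : g' • a ≠ a := by
    intro h0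
    apply hk
    have h1 : k • g' • a = k • a := by rw [h0]
    rw [hg', ← mul_smul, show k * (k⁻¹ * g * k) = g * k by group, mul_smul] at h1
    exact h1
  have hgc : g' = MulAut.conj k⁻¹ g := by rw [MulAut.conj_apply, inv_inv]
  have ho : Odd (orderOf g') := by
    rw [hgc]
    have := orderOf_injective (MulAut.conj k⁻¹).toMonoidHom (MulAut.conj k⁻¹).injective g
    exact this.symm ▸ hg
  have hord : ∀ t ∈ inv P a, orderOf t = 2 := by
    intro t ht
    have : Fact (Nat.Prime 2) := ⟨Nat.prime_two⟩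
    exact orderOf_eq_prime (by rw [pow_two]; exact ht.2.1) ht.2.2
  have h1 : NS (MulAut.conj g') := by
    rcases exists_inv h hab hy hz hyz hga ho with h1 | h1
    · exact ns_of_inner (hord y hy) h1
    · exact ns_of_inner (hord z hz) h1
  refine ns_of_conj (g := MulAut.conj k⁻¹) ?_
  have h2 : MulAut.conj k⁻¹ * MulAut.conj g * (MulAut.conj k⁻¹)⁻¹ = MulAut.conj g' := by
    rw [hg', map_mul, map_mul, map_inv, inv_inv]
  rw [h2]
  exact h1

end abs

section sz

variable {F : Type*} [Field F] [Fintype F] {m : ℕ}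

theorem aux (hm : 1 ≤ m) (hF : Fintype.card F = 2 ^ (2 * m + 1)) {p : ℕ} [hp : Fact p.Prime] (hp5 : 5 ≤ p) :
    IRow p ↥(Cfsg.Lie.Sz F (2 ^ (m + 1))) := by
  intro x hx
  have hp2 : p ≠ 2 := by omega
  obtain ⟨g, τ, hg⟩ := Cfsg.Agent.H70.SzAutThm.exists_conj_field hm hF x
  have hcycS := fun P : Sylow p ↥(Cfsg.Lie.Sz F (2 ^ (m + 1))) => Cfsg.Agent.H67.SzOdd.sylow_cyclic hm hF hp2 P
  set R := Cfsg.Agent.ThreePrime.SzRel.ofGood (Cfsg.Agent.LieRecognition.SzMatrix.good hF) with hRdef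
  have huu : ∀ c : F, R.u 0 c * R.u 0 c = 1 := fun c => (R.u_sq_iff 0 c).2 rfl
  have hucomm : ∀ c e : F, R.u 0 c * R.u 0 e = R.u 0 e * R.u 0 c := by
    intro c e
    rw [R.comm_iff, zero_mul]
  have hww := R.w_mul_w
  have hwN := R.w_not_mem_normalizer
  have hw1 : R.w ≠ 1 := by
    intro h1
    rw [h1] at hwN
    exact hwN (one_mem _)
  -- transport to the permutation model
  obtain ⟨e⟩ := Cfsg.Agent.OddCyclic.ClaimC.SzIso.iso hm hF
  have hG := Cfsg.Agent.H101.SzGeo.geo hm hF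
  have hfin : Finite ↥(Cfsg.Sz F m) := Finite.of_injective e e.injective
  have h11 : e.symm (R.u 0 1) ≠ 1 := by
    intro h1
    rw [map_eq_one_iff e.symm e.symm.injective] at h1
    exact R.u_ne_one one_ne_zero h1
  obtain ⟨a, ha⟩ := hG.fix (e.symm (R.u 0 1)) (by rw [← map_mul, huu, map_one]) h11
  have hua : ∀ c : F, e.symm (R.u 0 c) ∈ Cfsg.Agent.H101.SzGeo.P hF a := by
    intro c
    refine hG.cent a _ ha h11 _ ?_
    rw [← map_mul, ← map_mul, hucomm]
  have hwa : e.symm R.w ∉ Cfsg.Agent.H101.SzGeo.P hF a := by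
    intro h1
    apply hwN
    have h2 := hG.central a _ ha (by rw [← map_mul, huu, map_one]) _ h1
    rw [← map_mul, ← map_mul] at h2
    have h3 := e.symm.injective h2
    refine R.ti (x := R.u 0 1) (R.u_mem 0 1) (R.u_ne_one one_ne_zero) ?_
    rw [← h3, mul_inv_cancel_right]
    exact R.u_mem 0 1
  by_cases hτ : τ = 1
  · -- inner automorphisms
    have hxg : x = MulAut.conj g := by rw [hg, hτ, map_one, mul_one]
    refine ns_of_tr e.symm ?_
    have htr : tr e.symm x = MulAut.conj (e.symm g) := by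
      ext y
      rw [tr_apply, hxg]
      simp
    rw [htr]
    have hgo : orderOf (MulAut.conj (e.symm g)) = p := by rw [← htr, orderOf_tr, hx]
    have hZ := Cfsg.Agent.H67.SzOdd.center_sz hm hF
    have hg1 : e.symm g ≠ 1 := by
      intro h1
      rw [h1, map_one, orderOf_one] at hgo
      omega
    have hgodd : Odd (orderOf (e.symm g)) := by
      have hgp : (e.symm g) ^ p = 1 := by
        rw [← map_pow]
        have h2 : MulAut.conj (g ^ p) = 1 := by
          rw [map_pow, ← hxg, ← hx, pow_orderOf_eq_one]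
        have h3 : g ^ p ∈ center ↥(Cfsg.Lie.Sz F (2 ^ (m + 1))) := by
          rw [mem_center_iff]
          intro b
          have h4 : g ^ p * b * (g ^ p)⁻¹ = b := DFunLike.congr_fun h2 b
          exact (mul_inv_eq_iff_eq_mul.1 h4).symm
        rw [hZ, mem_bot] at h3
        rw [h3, map_one]
      have h4 := (Nat.dvd_prime hp.out).1 (orderOf_dvd_of_pow_eq_one hgp)
      rcases h4 with h4 | h4
      · rw [h4]; exact odd_one
      · rw [h4]; exact hp.out.odd_of_ne_two hp2
    obtain ⟨c, hc0, hc1⟩ : ∃ c : F, c ≠ 0 ∧ c ≠ 1 := by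
      classical
      have h8 : 2 < Fintype.card F := by
        rw [hF]
        calc 2 = 2 ^ 1 := by norm_num
          _ < 2 ^ (2 * m + 1) := Nat.pow_lt_pow_right (by norm_num) (by omega)
      obtain ⟨c, hc⟩ := Finset.exists_mem_notMem_of_card_lt_card (s := ({0, 1} : Finset F)) (t := Finset.univ) (by
        rw [Finset.card_univ]
        exact lt_of_le_of_lt Finset.card_le_two h8)
      refine ⟨c, fun h => hc.2 (by simp [h]), fun h => hc.2 (by simp [h])⟩
    refine ns_geo hG (abC hm hF) (a := a) (y := e.symm (R.u 0 1)) (z := e.symm (R.u 0 c)) (w := e.symm R.w)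
      ⟨hua 1, by rw [← map_mul, huu, map_one], h11⟩ ⟨hua c, by rw [← map_mul, huu, map_one], ?_⟩ ?_ ?_ hg1 hgodd
    · intro h1
      rw [map_eq_one_iff e.symm e.symm.injective, ← R.u_zero] at h1
      exact hc0 (R.u_inj h1).2
    · intro h1
      exact hc1 (R.u_inj (e.symm.injective h1)).2.symm
    · intro h1
      exact hwa (mem_of_fix hG (by rw [← map_mul, hww, map_one])
        (fun h => hw1 ((map_eq_one_iff e.symm e.symm.injective).1 h)) h1)
  -- field automorphisms
  have hxp : x ^ p = 1 := by rw [← hx, pow_orderOf_eq_one]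
  have hZ := Cfsg.Agent.H67.SzOdd.center_sz hm hF
  obtain ⟨ho, k, hk⟩ := Cfsg.Agent.H410.EndFld.conj_std hZ (Φ := Cfsg.Agent.H70.SzOut.fieldAut (Cfsg.Agent.LieRecognition.SzMatrix.good hF))
    (fun σ τ => map_mul _ σ τ) (map_one _)
    (fun τ g hg => Cfsg.Agent.H70.SzOut.eq_one_of_conj (Cfsg.Agent.LieRecognition.SzMatrix.good hF) hg) hp2 hxp hg hτ
    hcycS (d := 2) (by norm_num) (Cfsg.Agent.H628.ZRowSz.card_sz hF) (Cfsg.Agent.H628.ZRowSz.card_fixed hF τ) (by
      rw [Nat.card_eq_fintype_card, hF]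
      intro h1
      exact hp2 ((Nat.prime_dvd_prime_iff_eq hp.out Nat.prime_two).1 (hp.out.dvd_of_dvd_pow h1)))
  set σ := Cfsg.Agent.H70.SzOut.fieldAut (Cfsg.Agent.LieRecognition.SzMatrix.good hF) τ with hσ
  have hσu : ∀ b : F, σ (R.u 0 b) = R.u 0 (τ b) := by
    intro b
    have h1 := Cfsg.Agent.H70.SzOut.fieldAut_u (Cfsg.Agent.LieRecognition.SzMatrix.good hF) τ 0 b
    rw [map_zero] at h1
    exact h1
  have hσw : σ R.w = R.w := Cfsg.Agent.H70.SzOut.fieldAut_w (Cfsg.Agent.LieRecognition.SzMatrix.good hF) τ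
  refine ns_of_conj (g := (MulAut.conj k)⁻¹) ?_
  have hxσ : (MulAut.conj k)⁻¹ * x * ((MulAut.conj k)⁻¹)⁻¹ = σ := by
    rw [hk]
    group
  rw [hxσ]
  obtain ⟨b, hb⟩ : ∃ b : F, τ b ≠ b := by
    by_contra h1
    push Not at h1
    exact hτ (RingEquiv.ext h1)
  have hb2 : τ (τ b) ≠ b := by
    intro h1
    apply hb
    have h2 : ∀ n : ℕ, (τ ^ (2 * n)) b = b := by
      intro n
      induction n with
      | zero => rfl
      | succ n ih =>
        have h3 : (τ ^ (2 * (n + 1))) b = (τ ^ (2 * n)) (τ (τ b)) := by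
          rw [mul_add, pow_add]
          rfl
        rw [h3, h1, ih]
    obtain ⟨n, hn⟩ := hp.out.odd_of_ne_two hp2
    have h3 : (τ ^ p) b = τ b := by
      rw [hn, pow_succ']
      exact congrArg τ (h2 n)
    rw [← h3, ← ho, pow_orderOf_eq_one]
    rfl
  have htt : R.u 0 b * R.w * R.u 0 b * (R.u 0 b * R.w * R.u 0 b) = 1 := by
    calc R.u 0 b * R.w * R.u 0 b * (R.u 0 b * R.w * R.u 0 b) =
        R.u 0 b * R.w * (R.u 0 b * R.u 0 b) * R.w * R.u 0 b := by group
      _ = R.u 0 b * (R.w * R.w) * R.u 0 b := by rw [huu]; group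
      _ = 1 := by rw [hww, mul_one, huu]
  have ht1 : R.u 0 b * R.w * R.u 0 b ≠ 1 := by
    intro h0
    apply hw1
    have hui : (R.u 0 b)⁻¹ = R.u 0 b := inv_eq_of_mul_eq_one_right (huu b)
    calc R.w = (R.u 0 b)⁻¹ * (R.u 0 b * R.w * R.u 0 b) * (R.u 0 b)⁻¹ := by group
      _ = 1 := by rw [h0, mul_one, hui, huu]
  have hto : orderOf (R.u 0 b * R.w * R.u 0 b) = 2 := by
    have : Fact (Nat.Prime 2) := ⟨Nat.prime_two⟩
    exact orderOf_eq_prime (by rw [pow_two]; exact htt) ht1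
  refine ns_of_orb hto fun hD => ?_
  have hD1 := mem_orb σ (R.u 0 b * R.w * R.u 0 b)
  have hD2 := orb_inv σ _ _ hD1
  have hD3 := orb_inv σ _ _ hD2
  have htr : ∀ y, tr e.symm σ (e.symm y) = e.symm (σ y) := by
    intro y
    rw [tr_apply]
    simp
  refine key hG (abC hm hF) (σ := tr e.symm σ) (w := e.symm R.w) (u := e.symm (R.u 0 b)) (a := a)
    (D := (orb σ (R.u 0 b * R.w * R.u 0 b)).map e.symm.toMonoidHom) ?_ ?_ hwa ?_ (hua b) ?_ ?_ ?_ ?_ ?_ ?_ ?_ ?_ ?_
  · rw [← map_mul, hww, map_one]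
  · intro h1
    exact hw1 ((map_eq_one_iff e.symm e.symm.injective).1 h1)
  · rw [htr, hσw]
  · rw [htr, hσu]
    exact hua _
  · rw [htr, htr, hσu, hσu]
    exact hua _
  · rw [← map_mul, huu, map_one]
  · rw [htr, hσu]
    intro h1
    exact hb (R.u_inj (e.symm.injective h1)).2
  · rw [htr, htr, hσu, hσu]
    intro h1
    exact hb2 (R.u_inj (e.symm.injective h1)).2
  · exact Cfsg.Agent.SignalizersComponents.ComponentExists.isSolvable_map hD _
  · exact ⟨_, hD1, by simp⟩
  · rw [← map_mul, ← map_mul, htr]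
    exact ⟨_, hD2, rfl⟩
  · rw [← map_mul, ← map_mul, htr, htr]
    exact ⟨_, hD3, rfl⟩

end sz

/-- **The row of the Suzuki groups.** -/
theorem irow_suzuki {K : Type*} [Group K] {p : ℕ} [Fact p.Prime] (h : Cfsg.Lie.IsoSuzuki K) (hp : 5 ≤ p) :
    IRow p K := by
  obtain ⟨F, iF, iF', m, hm, hc, ⟨f⟩⟩ := h
  exact IRow.congr f (aux hm hc hp)

end Cfsg.Agent.H947.Inv
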